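import Groth.Agent.KosExt.Sheaf
import Groth.Agent.OmegaLib.Smooth
import Groth.Agent.OmegaLib.FiniteType
import Groth.Agent.Unibranch.FibreDim
import Groth.Prelude.Def_DeRham2
import Mathlib.LinearAlgebra.ExteriorPower.Basis

/-!
The terms of a de Rham complex of a smooth scheme over a field.
-/

set_option autoImplicit false
set_option linter.style.haveILetI false
set_option backward.isDefEq.respectTransparency false
set_option backward.isDefEq.respectTransparency.types false
set_option maxHeartbeats 1000000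

universe u

open CategoryTheory CategoryTheory.Limits AlgebraicGeometry TopologicalSpace Opposite exteriorPower
open Groth.Agent.QC (res resO res_res res_smul res_self IsLoc)

noncomputable section

namespace Groth.Agent.HdRVanish

variable {X S : Scheme.{u}} {f : X ⟶ S} {Ω : X.Modules} {δ : OmegaSh.Der f Ω}

section Frames

variable (D : DeRhamSh.Cx f Ω δ) (p : ℕ) {U : X.affineOpens} {m : ℕ}

/-- the wedge basis of the sections of a term -/
def termBasis (b : Module.Basis (Fin m) Γ(X, U.1) Γ(Ω, U.1)) :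
    Module.Basis (Set.powersetCard (Fin m) p) Γ(X, U.1) Γ(D.term p, U.1) :=
  (b.exteriorPower p).map (D.loc p U).symm

theorem res_termBasis (b : Module.Basis (Fin m) Γ(X, U.1) Γ(Ω, U.1)) {W : X.affineOpens} (hW : W.1 ≤ U.1)
    (b' : Module.Basis (Fin m) Γ(X, W.1) Γ(Ω, W.1)) (hb : ∀ k, b' k = res Ω hW (b k))
    (s : Set.powersetCard (Fin m) p) :
    res (D.term p) hW (termBasis D p b s) = termBasis D p b' s := by
  rw [termBasis, termBasis, Module.Basis.map_apply, Module.Basis.map_apply, exteriorPower.basis_apply,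
    exteriorPower.basis_apply]
  refine (D.loc_res p U W hW _).trans ?_
  congr 1
  rw [ιMulti_family]
  congr 1
  funext j
  exact (hb _).symm

theorem isLoc_term [Ω.IsQuasicoherent] (b : Module.Basis (Fin m) Γ(X, U.1) Γ(Ω, U.1)) : IsLoc (D.term p) U.1 := by
  classical
  have key : ∀ g : Γ(X, U.1), ∃ B : Module.Basis (Set.powersetCard (Fin m) p) Γ(X, X.basicOpen g)
      Γ(D.term p, X.basicOpen g), ∀ s, res (D.term p) (X.basicOpen_le g) (termBasis D p b s) = B s := fun g => by
    obtain ⟨b', hb'⟩ := KosExt.exists_basis_res Ω U.2 b g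
    exact ⟨termBasis D p (U := ⟨_, U.2.basicOpen g⟩) b',
      fun s => res_termBasis D p b (W := ⟨_, U.2.basicOpen g⟩) (X.basicOpen_le g) b' hb' s⟩
  refine ⟨fun g t => ?_, fun g s hs => ?_⟩
  · obtain ⟨B, hB⟩ := key g
    letI := (X.presheaf.map (homOfLE (X.basicOpen_le g)).op).hom.toAlgebra
    haveI : IsLocalization.Away g Γ(X, X.basicOpen g) := U.2.isLocalization_basicOpen g
    obtain ⟨⟨c, ⟨k, rfl⟩⟩, hint⟩ := IsLocalization.exist_integer_multiples_of_finite (Submonoid.powers g) (B.repr t)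
    choose a ha using hint
    refine ⟨k, ∑ i, a i • termBasis D p b i, ?_⟩
    conv_rhs => rw [← B.sum_repr t, Finset.smul_sum]
    rw [map_sum]
    refine Finset.sum_congr rfl fun i _ => ?_
    rw [res_smul, hB, smul_smul]
    congr 1
    rw [← map_pow]
    exact (ha i).trans (Algebra.smul_def _ _)
  · obtain ⟨B, hB⟩ := key g
    letI := (X.presheaf.map (homOfLE (X.basicOpen_le g)).op).hom.toAlgebra
    haveI : IsLocalization.Away g Γ(X, X.basicOpen g) := U.2.isLocalization_basicOpen g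
    let c := (termBasis D p b).repr s
    rw [← (termBasis D p b).sum_repr s, map_sum] at hs
    simp only [res_smul, hB] at hs
    have hc := Fintype.linearIndependent_iff.1 B.linearIndependent _ hs
    have hk : ∀ i, ∃ k : ℕ, g ^ k * c i = 0 := fun i => by
      obtain ⟨⟨_, k, rfl⟩, hk⟩ := (IsLocalization.eq_iff_exists (Submonoid.powers g) Γ(X, X.basicOpen g)).1
        ((hc i).trans (map_zero (algebraMap Γ(X, U.1) Γ(X, X.basicOpen g))).symm)
      exact ⟨k, by simpa using hk⟩
    choose k hk using hk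
    refine ⟨Finset.univ.sup k, ?_⟩
    rw [← (termBasis D p b).sum_repr s, Finset.smul_sum]
    refine Finset.sum_eq_zero fun i _ => ?_
    obtain ⟨d, hd⟩ := Nat.exists_eq_add_of_le (Finset.le_sup (f := k) (Finset.mem_univ i))
    rw [smul_smul, hd, pow_add, mul_assoc, mul_left_comm, hk i, mul_zero, zero_smul]

theorem subsingleton_term (b : Module.Basis (Fin m) Γ(X, U.1) Γ(Ω, U.1)) (hp : m < p) :
    Subsingleton Γ(D.term p, U.1) := by
  haveI : IsEmpty (Set.powersetCard (Fin m) p) := ⟨fun s => by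
    have h1 := Finset.card_le_univ (s : Finset (Fin m))
    rw [Fintype.card_fin, Set.powersetCard.mem_iff.1 s.2] at h1
    omega⟩
  exact (termBasis D p b).repr.toEquiv.subsingleton

end Frames

theorem fibreDimAt_le_krullDim {k : Type u} [Field k] (f : X ⟶ Spec (CommRingCat.of k)) (x : X) :
    FlatMor.fibreDimAt f x ≤ topologicalKrullDim X := by
  refine (iInf_le _ ⟨⊤, trivial⟩).trans ?_
  exact (topologicalKrullDim_subspace_le _ (⊤ : Opens (f.fiber (f x))).1).trans
    (f.fiberι (f x)).isEmbedding.isInducing.topologicalKrullDim_le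

/-- local bases of differentials of a smooth scheme over a field -/
theorem exists_basis {k : Type u} [Field k] {f : X ⟶ Spec (CommRingCat.of k)} [Smooth f] {Ω : X.Modules}
    {d : OmegaSh.Der f Ω} (hd : OmegaSh.IsUniversal d) (n : ℕ) (hn : topologicalKrullDim X ≤ n) (x : X) :
    ∃ (U : X.affineOpens) (m : ℕ), x ∈ U.1 ∧ m ≤ n ∧ Nonempty (Module.Basis (Fin m) Γ(X, U.1) Γ(Ω, U.1)) := by
  obtain ⟨V, hV, U, hU, hxU, e, hss⟩ := Smooth.exists_isStandardSmooth f x
  letI : Algebra Γ(Spec (CommRingCat.of k), V) Γ(X, U) := (f.appLE V U e).hom.toAlgebra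
  haveI : Algebra.IsStandardSmooth Γ(Spec (CommRingCat.of k), V) Γ(X, U) := hss
  obtain ⟨ι, σ, hσ, hι, ⟨P⟩⟩ := Algebra.IsStandardSmooth.out (R := Γ(Spec (CommRingCat.of k), V)) (S := Γ(X, U))
  haveI : Algebra.IsStandardSmoothOfRelativeDimension P.dimension Γ(Spec (CommRingCat.of k), V) Γ(X, U) :=
    ⟨ι, σ, hσ, hι, P, rfl⟩
  obtain ⟨z, hz⟩ : x ∈ Set.range hU.fromSpec := hU.range_fromSpec.ge hxU
  haveI : Nontrivial Γ(X, U) := ⟨⟨0, 1, fun h => z.isPrime.ne_top
    ((Ideal.eq_top_iff_one _).mpr (h ▸ z.asIdeal.zero_mem))⟩⟩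
  obtain ⟨L, -⟩ := OmegaLib.exists_linearEquiv hd e hU hV
  haveI : Module.Finite Γ(X, U) Γ(Ω, U) := Module.Finite.equiv L.symm
  haveI : Module.Free Γ(X, U) Γ(Ω, U) := Module.Free.of_equiv L.symm
  have hrank : Module.finrank Γ(X, U) Γ(Ω, U) = P.dimension := by
    rw [L.finrank_eq]
    exact Module.finrank_eq_of_rank_eq
      (Algebra.IsStandardSmoothOfRelativeDimension.rank_kaehlerDifferential P.dimension)
  have hdim : FlatMor.fibreDimAt f x = (P.dimension : WithBot ℕ∞) := by
    rw [← hz, ← LocalDimBC.fibreDimAt_openImmersion_comp hU.fromSpec f z,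
      ← IsAffineOpen.SpecMap_appLE_fromSpec f hV hU e, ← LocalDimBC.fibreDimAt_comp_openImmersion]
    exact LocalDimBC.fibreDimAt_Spec_of_isStandardSmooth P.dimension (R := Γ(Spec (CommRingCat.of k), V)) (A := Γ(X, U)) z
  have h := hdim ▸ (fibreDimAt_le_krullDim f x).trans hn
  exact ⟨⟨U, hU⟩, P.dimension, hxU, by exact_mod_cast h,
    ⟨Module.finBasisOfFinrankEq Γ(X, U) Γ(Ω, U) hrank⟩⟩

variable {k : Type u} [Field k] {f : X ⟶ Spec (CommRingCat.of k)} [QuasiSeparated f] [Smooth f]
  (D : DeRhamSh.OmegaCx f) (n : ℕ) (hn : topologicalKrullDim X ≤ n)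

include hn in
theorem isQCoh_term (p : ℕ) : Coh.IsQCoh (D.term p) := by
  haveI : (Omega.sheaf f).IsQuasicoherent := OmegaLib.isQCoh_of_isUniversal (OmegaLib.isUniversal_dOmega f)
  refine QC.isQCoh_of_isLoc fun x => ?_
  obtain ⟨U, m, hxU, -, ⟨b⟩⟩ := exists_basis (OmegaLib.isUniversal_dOmega f) n hn x
  exact ⟨U.1, U.2, hxU, isLoc_term D p b⟩

include hn in
theorem isZero_term (p : ℕ) (hp : n < p) : IsZero (D.term p) := by
  haveI : (Omega.sheaf f).IsQuasicoherent := OmegaLib.isQCoh_of_isUniversal (OmegaLib.isUniversal_dOmega f)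
  rw [IsZero.iff_id_eq_zero]
  refine Scheme.Modules.hom_ext _ _ fun V => ?_
  ext s
  refine QC.section_eq_of_locally fun x hx => ?_
  obtain ⟨U, m, hxU, hm, ⟨b⟩⟩ := exists_basis (OmegaLib.isUniversal_dOmega f) n hn x
  obtain ⟨g, hg, hxg⟩ := U.2.exists_basicOpen_le (V := V) ⟨x, hx⟩ hxU
  obtain ⟨b', -⟩ := KosExt.exists_basis_res (Omega.sheaf f) U.2 b g
  haveI := subsingleton_term D p (U := ⟨_, U.2.basicOpen g⟩) b' (by lia)
  exact ⟨X.basicOpen g, hg, hxg, Subsingleton.elim _ _⟩

end Groth.Agent.HdRVanish
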