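import Groth.Agent.HdRVanish.Hom
import Groth.Agent.HdRVanish.Terms
import Groth.Agent.FreeJ.Grothendieck
import Groth.Prelude.Def_Coh

/-!
Vanishing of de Rham cohomology above dimension plus cohomological dimension.
-/

set_option autoImplicit false
set_option linter.style.haveILetI false
set_option backward.isDefEq.respectTransparency false
set_option backward.isDefEq.respectTransparency.types false

universe u

open CategoryTheory CategoryTheory.Limits AlgebraicGeometry TopologicalSpace Opposite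

namespace Groth.Agent.HdRVanish

theorem subsingleton_ext_congr {X : TopCat.{u}} {A B : CohTop.Ab X} (P : CohTop.Ab X) (e : A ≅ B) (q : ℕ)
    (h : Subsingleton (Abelian.Ext P B q)) : Subsingleton (Abelian.Ext P A q) :=
  subsingleton_of_forall_eq 0 fun x => by
    have : (x.comp (Abelian.Ext.mk₀ e.hom) (add_zero q)).comp (Abelian.Ext.mk₀ e.inv) (add_zero q) = x := by
      rw [Abelian.Ext.comp_assoc_of_second_deg_zero, Abelian.Ext.mk₀_comp_mk₀, e.hom_inv_id, Abelian.Ext.comp_mk₀_id]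
    rw [← this, h.elim (x.comp (Abelian.Ext.mk₀ e.hom) (add_zero q)) 0, Abelian.Ext.zero_comp]

theorem subsingleton_ext_isZero {X : TopCat.{u}} {A : CohTop.Ab X} (P : CohTop.Ab X) (hA : IsZero A) (q : ℕ) :
    Subsingleton (Abelian.Ext P A q) :=
  subsingleton_of_forall_eq 0 fun x => by
    rw [← Abelian.Ext.comp_mk₀_id x, hA.eq_of_src (𝟙 A) 0, Abelian.Ext.mk₀_zero, Abelian.Ext.comp_zero]

theorem subsingleton_hdR {k : Type u} [Field k] {X : Scheme.{u}} {f : X ⟶ Spec (CommRingCat.of k)}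
    [QuasiSeparated f] [Smooth f] (n : ℕ) (hn : topologicalKrullDim X ≤ n) (r : ℕ)
    (hcd : ∀ (F : X.Modules), Coh.IsQCoh F → ∀ q : ℕ, r ≤ q → Subsingleton (Coh.HH X F q))
    (D : DeRhamSh.OmegaCx f)
    [HasDerivedCategory.{u} (Sheaf (Opens.grothendieckTopology ↥X) AddCommGrpCat.{u})]
    (i : ℤ) (hi : (n : ℤ) + r ≤ i) : Subsingleton (DeRhamSh.HdR D i) := by
  let e := ComplexShape.embeddingUpNat
  have hneg : ∀ p : ℤ, p < 0 → IsZero (D.KZ.X p) := fun p hp =>
    D.K.isZero_extend_X e p fun j hj => by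
      have : ((j : ℕ) : ℤ) = p := hj
      omega
  have hX : ∀ j : ℕ, Nonempty (D.KZ.X (j : ℤ) ≅ Coh.toAb (D.term j)) := fun j =>
    ⟨D.K.extendXIso e (rfl : e.f j = (j : ℤ)) ≪≫ D.iso j⟩
  have hbig : ∀ p : ℤ, (n : ℤ) < p → IsZero (D.KZ.X p) := fun p hp => by
    obtain ⟨j, rfl⟩ := Int.eq_ofNat_of_zero_le (show 0 ≤ p by omega)
    haveI : (SheafOfModules.toSheaf.{u} X.ringCatSheaf).Additive := inferInstance
    exact ((SheafOfModules.toSheaf.{u} X.ringCatSheaf).map_isZero (isZero_term D n hn j (by omega))).of_iso (hX j).some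
  refine subsingleton_homTo (CohCx.freeSheaf (Opens.grothendieckTopology X) (⊤ : X.Opens)) D.KZ n r hneg hbig
    (fun p q hq => ?_) i hi
  rcases lt_or_ge p 0 with hp | hp
  · exact subsingleton_ext_isZero (X := X.toTopCat) _ (hneg p hp) q
  obtain ⟨j, rfl⟩ := Int.eq_ofNat_of_zero_le hp
  refine subsingleton_ext_congr (X := X.toTopCat) _ (hX j).some q ?_
  exact (FreeJ.subsingleton_H_iff (X := X.toTopCat) (Coh.toAb (D.term j)) q).1 (hcd _ (isQCoh_term D n hn j) q hq)

end Groth.Agent.HdRVanish
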