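import Groth.Agent.ProjForm.Stupid
import Mathlib

/-!
Maps into shifts of bounded complexes with acyclic terms.
-/

set_option autoImplicit false
set_option backward.isDefEq.respectTransparency false
set_option backward.isDefEq.respectTransparency.types false

universe w w' v u

open CategoryTheory Category Limits Pretriangulated

namespace Groth.Agent.HdRVanish

variable {A : Type u} [Category.{v} A] [Abelian A] [HasExt.{w} A] [HasDerivedCategory.{w'} A]

/-- the Hom group of interest -/
abbrev HomTo (X : A) (K : CochainComplex A ℤ) (i : ℤ) :=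
  (DerivedCategory.singleFunctor A 0).obj X ⟶ (shiftFunctor (DerivedCategory A) i).obj (DerivedCategory.Q.obj K)

theorem subsingleton_homTo (X : A) (K : CochainComplex A ℤ) (n r : ℕ)
    (hneg : ∀ p, p < 0 → IsZero (K.X p)) (hbig : ∀ p : ℤ, (n : ℤ) < p → IsZero (K.X p))
    (h : ∀ (p : ℤ) (q : ℕ), r ≤ q → Subsingleton (Abelian.Ext X (K.X p) q)) (i : ℤ) (hi : (n : ℤ) + r ≤ i) :
    Subsingleton (HomTo X K i) := by
  refine ProjForm.Stupid.prop_of_bounded K (fun P => Subsingleton (HomTo X P i))
    (fun {P P'} e hP => ?_) (fun P hP => ?_) (fun {S} hS h₁ h₃ => ?_) hneg hbig fun p => ?_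
  · let E : (shiftFunctor (DerivedCategory A) i).obj (DerivedCategory.Q.obj P) ≅
        (shiftFunctor (DerivedCategory A) i).obj (DerivedCategory.Q.obj P') :=
      (DerivedCategory.Q ⋙ shiftFunctor (DerivedCategory A) i).mapIso e
    exact E.homToEquiv.subsingleton_congr.1 hP
  · have : IsZero ((shiftFunctor (DerivedCategory A) i).obj (DerivedCategory.Q.obj P)) :=
      (DerivedCategory.Q ⋙ shiftFunctor (DerivedCategory A) i).map_isZero hP
    exact ⟨fun a b => this.eq_of_tgt a b⟩
  · have hS' : S.ShortExact := HomologicalComplex.shortExact_of_degreewise_shortExact S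
      fun k => (hS k).shortExact
    have hT := Triangle.shift_distinguished _ (DerivedCategory.triangleOfSES_distinguished hS') i
    refine ⟨fun a b => sub_eq_zero.1 ?_⟩
    obtain ⟨c, hc⟩ := Triangle.coyoneda_exact₂ _ hT (a - b) (h₃.elim _ _)
    rw [hc, h₁.elim c 0]
    exact zero_comp
  · by_cases hp : p < 0 ∨ (n : ℤ) < p
    · have hz : IsZero ((HomologicalComplex.single A (ComplexShape.up ℤ) p).obj (K.X p)) :=
        Functor.map_isZero _ (hp.elim (hneg p) (hbig p))
      have : IsZero ((shiftFunctor (DerivedCategory A) i).obj (DerivedCategory.Q.obj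
          ((HomologicalComplex.single A (ComplexShape.up ℤ) p).obj (K.X p)))) :=
        (DerivedCategory.Q ⋙ shiftFunctor (DerivedCategory A) i).map_isZero hz
      exact ⟨fun a b => this.eq_of_tgt a b⟩
    obtain ⟨q, hq⟩ : ∃ q : ℕ, i = p + q := ⟨(i - p).toNat, by lia⟩
    let Y := K.X p
    let e : (shiftFunctor (DerivedCategory A) i).obj (DerivedCategory.Q.obj
          ((HomologicalComplex.single A (ComplexShape.up ℤ) p).obj Y)) ≅
        (shiftFunctor (DerivedCategory A) (q : ℤ)).obj ((DerivedCategory.singleFunctor A 0).obj Y) :=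
      (shiftFunctorAdd' (DerivedCategory A) p q i (by lia)).app _ ≪≫
        (shiftFunctor (DerivedCategory A) (q : ℤ)).mapIso
          (((DerivedCategory.singleFunctors A).shiftIso p 0 p (add_zero p)).app Y)
    haveI := h p q (by lia)
    exact e.homToEquiv.subsingleton_congr.2 Abelian.Ext.homEquiv.symm.subsingleton

end Groth.Agent.HdRVanish
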